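import Groth.Agent.An92.Conn.Eps
import Groth.Agent.S0107
import Groth.Agent.S4208
import Mathlib.CategoryTheory.Sites.LeftExact
import Mathlib.CategoryTheory.ConcreteCategory.Basic
import Mathlib.Topology.LocallyClosed

/-!
The inverse image on the classical site of a sheaf represented by a finite étale scheme.
-/

set_option autoImplicit false
set_option backward.isDefEq.respectTransparency.types false

noncomputable section

open AlgebraicGeometry CategoryTheory CategoryTheory.Limits TopologicalSpace Topology Opposite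

namespace Groth.Agent.HTop50.AnLC

open An

/-- The classical topology is subcanonical. -/
theorem isSheaf_yoneda {T : Type} [TopologicalSpace T] (B : Cl T) :
    Presieve.IsSheaf (Cl.topology T) (yoneda.obj B ⋙ uliftFunctor.{1}) := by
  intro A S hS x hx
  choose Z g hg hemb z hz using hS
  have key : ∀ {Y Y' : Cl T} (f : Y ⟶ A) (f' : Y' ⟶ A) (hf : S f) (hf' : S f') (y : Y.E) (y' : Y'.E),
      IsOpenEmbedding f'.toFun → f.toFun y = f'.toFun y' →
        (x f hf).down.toFun y = (x f' hf').down.toFun y' := by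
    intro Y Y' f f' hf hf' y y' he e
    have h := hx (Cl.restrictOpenι Y _ (he.isOpen_range.preimage f.continuous))
      (Cl.liftThrough f f' he) hf hf' (Cl.liftThrough_comp f f' he).symm
    have hy : y ∈ f.toFun ⁻¹' Set.range f'.toFun := ⟨y', e.symm⟩
    let yy : (Cl.restrictOpen Y _ (he.isOpen_range.preimage f.continuous)).E :=
      (⟨y, hy⟩ : {w // w ∈ f.toFun ⁻¹' Set.range f'.toFun})
    have h2 := congrArg (fun q : ULift.{1} (_ ⟶ B) => q.down.toFun yy) h
    have hl : (Cl.liftThrough f f' he).toFun yy = y' := he.injective (by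
      have := congrArg (fun q : _ ⟶ A => q.toFun yy) (Cl.liftThrough_comp f f' he)
      exact this.trans e)
    exact h2.trans (congrArg (x f' hf').down.toFun hl)
  let val : A.E → B.E := fun a => (x (g a) (hg a)).down.toFun (z a)
  have hval : ∀ {Y : Cl T} (f : Y ⟶ A) (hf : S f) (y : Y.E), val (f.toFun y) = (x f hf).down.toFun y :=
    fun f hf y => (key f (g _) hf (hg _) y (z _) (hemb _) (hz _).symm).symm
  have hc : Continuous val := continuous_iff_continuousAt.2 fun a => by
    have e : val ∘ (g a).toFun = (x (g a) (hg a)).down.toFun := funext (hval _ (hg a))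
    have h := (hemb a).continuousAt_iff (g := val) (x := z a)
    rw [e, hz a] at h
    exact h.1 (x (g a) (hg a)).down.continuous.continuousAt
  have hp : ∀ a, B.p (val a) = A.p a := fun a =>
    ((x (g a) (hg a)).down.over (z a)).trans
      (((g a).over (z a)).symm.trans (congrArg A.p (hz a)))
  refine ⟨ULift.up (⟨val, hc, hp⟩ : A ⟶ B), fun Y f hf => ULift.ext _ _ (Cl.hom_ext (funext (hval f hf))),
    fun t ht => ULift.ext _ _ (Cl.hom_ext (funext fun a => ?_))⟩
  have h := congrArg (fun q : ULift.{1} (_ ⟶ B) => q.down.toFun (z a)) (ht (g a) (hg a))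
  exact (congrArg t.down.toFun (hz a).symm).trans h

variable {X : Scheme.{0}} [X.Over SC] [LocallyOfFiniteType (X ↘ SC)] [Fact EtaleLH]

/-- A section makes an étale scheme represent a sheaf. -/
def IsUniv (F : EtCoh.Ab X) (V : X.Etale) (τ : EtCoh.sect F V) : Prop :=
  ∀ W : X.Etale, Function.Bijective fun b : W ⟶ V => F.obj.map b.op τ

theorem exists_isUniv (F : EtCoh.Ab X) (hF : EtCoh.IsFiniteLocallyConstant F) :
    ∃ (V : X.Etale) (_ : IsFinite V.hom) (τ : EtCoh.sect F V), IsUniv F V τ := by
  obtain ⟨V, hV, ⟨i⟩⟩ := S0107.result F hF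
  let τ : EtCoh.sect F V := i.inv.app (op V) (ULift.up (𝟙 V))
  have e : ∀ (W : X.Etale) (b : W ⟶ V), F.obj.map b.op τ = i.inv.app (op W) (ULift.up b) := fun W b => by
    refine (NatTrans.naturality_apply i.inv b.op _).symm.trans ?_
    exact congrArg (fun c => i.inv.app (op W) (ULift.up c)) (Category.comp_id b)
  refine ⟨V, hV, τ, fun W => ?_⟩
  rw [show (fun b : W ⟶ V => F.obj.map b.op τ) = fun b => i.inv.app (op W) (ULift.up b) from funext (e W)]
  exact (((isIso_iff_bijective _).1 (inferInstanceAs (IsIso (i.inv.app (op W))))).comp Equiv.ulift.symm.bijective)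

variable (F : EtCoh.Ab X)

/-- The left Kan extension along the comparison functor. -/
abbrev P : (Cl (Pts X))ᵒᵖ ⥤ AddCommGrpCat.{1} := (eps X).op.leftKanExtension F.obj

/-- Its unit. -/
abbrev η : F.obj ⟶ (eps X).op ⋙ P F := (eps X).op.leftKanExtensionUnit F.obj

variable {F} {V : X.Etale} (τ : EtCoh.sect F V)

/-- Sections from maps to the representing space. -/
def psi (A : Cl (Pts X)) (h : A ⟶ (eps X).obj V) : (P F).obj (op A) :=
  (P F).map h.op ((η F).app (op V) τ)

theorem psi_map {A A' : Cl (Pts X)} (g : A' ⟶ A) (h : A ⟶ (eps X).obj V) :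
    (P F).map g.op (psi τ A h) = psi τ A' (g ≫ h) := by
  rw [psi, psi, op_comp, Functor.map_comp]
  rfl

theorem psi_eps {W : X.Etale} (b : W ⟶ V) :
    psi τ _ ((eps X).map b) = (η F).app (op W) (F.obj.map b.op τ) :=
  (NatTrans.naturality_apply (η F) b.op τ).symm

variable {τ} (hτ : IsUniv F V τ)
include hτ

theorem psi_bijective (A : Cl (Pts X)) : Function.Bijective (psi τ A) := by
  have := An92.representablyFlat_eps X
  have : IsFiltered (CostructuredArrow (eps X).op (op A)) :=
    IsFiltered.of_equivalence (structuredArrowOpEquivalence (eps X) A)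
  have : PreservesFilteredColimitsOfSize.{0, 1} (forget AddCommGrpCat.{1}) :=
    preservesFilteredColimitsOfSize_of_univLE.{1, 1, 0, 1} _
  have : PreservesColimitsOfShape (CostructuredArrow (eps X).op (op A)) (forget AddCommGrpCat.{1}) :=
    PreservesFilteredColimitsOfSize.preserves_filtered_colimits _
  let hcol := Functor.isPointwiseLeftKanExtensionLeftKanExtensionUnit (eps X).op F.obj (op A)
  refine ⟨fun h h' e => ?_, fun t => ?_⟩
  · let T := fun k : A ⟶ (eps X).obj V => CostructuredArrow.mk (S := (eps X).op) (Y := op V) k.op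
    obtain ⟨W, a, b, hab⟩ := (Types.FilteredColimit.isColimit_eq_iff _
      (isColimitOfPreserves (forget AddCommGrpCat.{1}) hcol) (i := T h) (j := T h') (xi := τ) (xj := τ)).1 e
    have hab' : F.obj.map a.left τ = F.obj.map b.left τ := hab
    have hu : a.left.unop = b.left.unop := (hτ W.left.unop).1 hab'
    have ea := congrArg Quiver.Hom.unop (CostructuredArrow.w a)
    have eb := congrArg Quiver.Hom.unop (CostructuredArrow.w b)
    have ea' : W.hom.unop ≫ (eps X).map a.left.unop = h := ea
    have eb' : W.hom.unop ≫ (eps X).map b.left.unop = h' := eb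
    rw [← ea', ← eb', hu]
  · obtain ⟨W, s, rfl⟩ := Concrete.isColimit_exists_rep _ hcol t
    obtain ⟨b, hb⟩ := (hτ W.left.unop).2 s
    refine ⟨W.hom.unop ≫ (eps X).map b, ?_⟩
    refine (psi_map τ W.hom.unop ((eps X).map b)).symm.trans ((congrArg _ (psi_eps τ b)).trans ?_)
    exact congrArg (fun s => (P F).map W.hom ((η F).app W.left s)) hb

theorem isSheaf_P : Presheaf.IsSheaf (Cl.topology (Pts X)) (P F) := by
  rw [Presheaf.isSheaf_iff_isSheaf_forget _ _ (forget AddCommGrpCat.{1}), isSheaf_iff_isSheaf_of_type]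
  let i : yoneda.obj ((eps X).obj V) ⋙ uliftFunctor.{1} ≅ P F ⋙ forget AddCommGrpCat.{1} :=
    NatIso.ofComponents (fun A => (Equiv.ulift.trans (Equiv.ofBijective _ (psi_bijective hτ A.unop))).toIso)
      (fun {A A'} g => by
        ext h
        exact (psi_map τ g.unop h.down).symm)
  exact Presieve.isSheaf_iso _ i (isSheaf_yoneda _)

/-- The inverse image as the Kan extension. -/
abbrev G : Cl.Ab (Pts X) := ⟨P F, isSheaf_P hτ⟩

variable [EpsCont X]

/-- The unit into it. -/
abbrev unitG : F ⟶ (epsPush X).obj (G hτ) := ⟨η F⟩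

theorem exists_iso :
    ∃ i : (epsPull X).obj F ≅ G hτ, (epsAdj X).unit.app F ≫ (epsPush X).map i.hom = unitG hτ := by
  let a : (epsPull X).obj F ⟶ G hτ := ((epsAdj X).homEquiv _ _).symm (unitG hτ)
  have ha : (epsAdj X).unit.app F ≫ (epsPush X).map a = unitG hτ := by
    exact (Adjunction.homEquiv_unit (epsAdj X) F (G hτ) a).symm.trans (Equiv.apply_symm_apply _ _)
  let b₀ := (P F).descOfIsLeftKanExtension (η F) ((epsPull X).obj F).obj ((epsAdj X).unit.app F).hom
  let b : G hτ ⟶ (epsPull X).obj F := ⟨b₀⟩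
  have hb : unitG hτ ≫ (epsPush X).map b = (epsAdj X).unit.app F :=
    ObjectProperty.hom_ext _ ((P F).descOfIsLeftKanExtension_fac (η F) _ ((epsAdj X).unit.app F).hom)
  refine ⟨⟨a, b, ?_, ?_⟩, ha⟩
  · apply ((epsAdj X).homEquiv _ _).injective
    rw [Adjunction.homEquiv_unit, Adjunction.homEquiv_unit, Functor.map_comp, reassoc_of% ha, hb,
      CategoryTheory.Functor.map_id]
    exact (Category.comp_id _).symm
  · refine ObjectProperty.hom_ext _ ((P F).hom_ext_of_isLeftKanExtension (η F) _ _ ?_)
    have h : unitG hτ ≫ (epsPush X).map (b ≫ a) = unitG hτ ≫ (epsPush X).map (𝟙 _) := by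
      rw [Functor.map_comp, reassoc_of% hb, ha, CategoryTheory.Functor.map_id]
      exact (Category.comp_id _).symm
    exact congrArg (fun k : F ⟶ (epsPush X).obj (G hτ) => k.hom) h

theorem isIso_unit [IsFinite V.hom] : IsIso ((epsAdj X).unit.app F) := by
  obtain ⟨i, hi⟩ := exists_iso hτ
  have hη : IsIso (unitG hτ) := by
    have hh : IsIso (η F) := by
      have : ∀ W : X.Etaleᵒᵖ, IsIso ((η F).app W) := fun W => by
        rw [ConcreteCategory.isIso_iff_bijective]
        have : IsSeparated (V.left ↘ X) := inferInstanceAs (IsSeparated V.hom)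
        have hff : Function.Bijective ((eps X).map : (W.unop ⟶ V) → _) :=
          ⟨(S4208.result X).2.map_injective, (S4208.result X).1 W.unop V⟩
        have e : (fun b : W.unop ⟶ V => (η F).app W (F.obj.map b.op τ)) =
            psi τ _ ∘ (eps X).map := funext fun b => (psi_eps τ b).symm
        refine (Function.Bijective.of_comp_iff ⇑(ConcreteCategory.hom ((η F).app W)) (hτ W.unop)).1 ?_
        have h2 := (psi_bijective hτ ((eps X).obj W.unop)).comp hff
        rw [← e] at h2
        exact h2
      exact NatIso.isIso_of_isIso_app _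
    have : IsIso ((ObjectProperty.ι (Presheaf.IsSheaf X.smallEtaleTopology)).map (unitG hτ)) := hh
    exact (ObjectProperty.fullyFaithfulι _).isIso_of_isIso_map (unitG hτ)
  rw [← hi] at hη
  exact IsIso.of_isIso_comp_right _ ((epsPush X).map i.hom)

end Groth.Agent.HTop50.AnLC
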