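import Groth.Agent.HTop50.AnLC.Lan
import Mathlib.CategoryTheory.Sites.LocallyBijective
import Mathlib.CategoryTheory.Sites.ConstantSheaf
import Mathlib.Topology.LocallyConstant.Algebra

/-!
The constant sheaf on the classical site is the sheaf of locally constant functions.
-/

set_option autoImplicit false
set_option backward.isDefEq.respectTransparency.types false

noncomputable section

open CategoryTheory CategoryTheory.Limits TopologicalSpace Topology Opposite

namespace Groth.Agent.HTop50.AnLC

open An

variable (T : Type) [TopologicalSpace T] (M : Type) [AddCommGroup M]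

/-- Locally constant functions on the classical site. -/
def lcPre : (Cl T)ᵒᵖ ⥤ AddCommGrpCat.{1} where
  obj B := AddCommGrpCat.of (LocallyConstant B.unop.E (ULift.{1} M))
  map g := AddCommGrpCat.ofHom (LocallyConstant.comapAddMonoidHom ⟨g.unop.toFun, g.unop.continuous⟩)
  map_id _ := rfl
  map_comp _ _ := rfl

theorem isSheaf_lcPre : Presheaf.IsSheaf (Cl.topology T) (lcPre T M) := by
  rw [Presheaf.isSheaf_iff_isSheaf_forget _ _ (forget AddCommGrpCat.{1}), isSheaf_iff_isSheaf_of_type]
  letI : TopologicalSpace M := ⊥
  have : DiscreteTopology M := ⟨rfl⟩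
  have hlh : IsLocalHomeomorph (Prod.fst : T × M → T) := isLocalHomeomorph_iff_isOpenEmbedding_restrict.2
    fun x => ⟨Set.univ ×ˢ {x.2}, (isOpen_univ.prod (isOpen_discrete _)).mem_nhds ⟨trivial, rfl⟩, by
      refine IsOpenEmbedding.of_continuous_injective_isOpenMap (continuous_fst.comp continuous_subtype_val)
        (fun a b h => Subtype.ext (Prod.ext h (a.2.2.trans b.2.2.symm))) fun U hU => ?_
      have e : Set.domRestrict (Set.univ ×ˢ {x.2}) Prod.fst '' U = (Prod.fst : T × M → T) '' (Subtype.val '' U) := by
        rw [Set.image_image]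
        rfl
      rw [e]
      exact isOpenMap_fst _ ((isOpen_univ.prod (isOpen_discrete _)).isOpenMap_subtype_val _ hU)⟩
  let B₀ : Cl T := ⟨T × M, Prod.fst, hlh⟩
  let i : yoneda.obj B₀ ⋙ uliftFunctor.{1} ≅ lcPre T M ⋙ forget AddCommGrpCat.{1} :=
    NatIso.ofComponents (fun B =>
      ({ toFun := fun h => (⟨fun b => ULift.up (h.down.toFun b).2,
            ((IsLocallyConstant.iff_continuous _).2 (continuous_snd.comp h.down.continuous)).comp ULift.up⟩ :
              LocallyConstant B.unop.E (ULift.{1} M))
         invFun := fun f => ULift.up (⟨fun b => (B.unop.p b, (show LocallyConstant B.unop.E (ULift.{1} M) from f) b |>.down),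
           B.unop.lh.continuous.prodMk
            ((IsLocallyConstant.iff_continuous _).1
              ((show LocallyConstant B.unop.E (ULift.{1} M) from f).isLocallyConstant.comp ULift.down)),
           fun b => rfl⟩ : B.unop ⟶ B₀)
         left_inv := fun h => ULift.ext _ _ (Cl.hom_ext (funext fun b =>
           Prod.ext (h.down.over b).symm rfl))
         right_inv := fun f => LocallyConstant.ext fun b => rfl } : _ ≃ _).toIso) (fun g => rfl)
  exact Presieve.isSheaf_iso _ i (isSheaf_yoneda _)

/-- The sheaf of locally constant functions. -/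
def lcCl : Cl.Ab T := ⟨lcPre T M, isSheaf_lcPre T M⟩

/-- Constant functions. -/
def constToLC : (Functor.const (Cl T)ᵒᵖ).obj (AddCommGrpCat.of (ULift.{1} M)) ⟶ (lcCl T M).obj where
  app B := AddCommGrpCat.ofHom
    (show ULift.{1} M →+ LocallyConstant B.unop.E (ULift.{1} M) from LocallyConstant.constAddMonoidHom)
  naturality _ _ _ := rfl

instance : Presheaf.IsLocallyInjective (Cl.topology T) (constToLC T M) where
  equalizerSieve_mem := by
    intro B m n h a
    exact ⟨B.unop, 𝟙 _, congrArg (fun s : LocallyConstant B.unop.E (ULift.{1} M) => s a) h,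
      IsOpenEmbedding.id, a, rfl⟩

instance : Presheaf.IsLocallySurjective (Cl.topology T) (constToLC T M) where
  imageSieve_mem := by
    intro B t a
    let t' : LocallyConstant B.E (ULift.{1} M) := t
    have hO : IsOpen (t' ⁻¹' {t' a}) := t'.isLocallyConstant.isOpen_fiber _
    refine ⟨_, Cl.restrictOpenι B _ hO, ⟨t' a, LocallyConstant.ext fun z => ?_⟩,
      hO.isOpenEmbedding_subtypeVal, (⟨a, rfl⟩ : {w // w ∈ t' ⁻¹' {t' a}}), rfl⟩
    exact ((z : {w // w ∈ t' ⁻¹' {t' a}}).2 : t' _ = t' a).symm

/-- The constant sheaf is the sheaf of locally constant functions. -/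
def constIso : Cl.const T M ≅ lcCl T M :=
  @asIso _ _ _ _ ((presheafToSheaf (Cl.topology T) AddCommGrpCat.{1}).map (constToLC T M))
      (((Cl.topology T).W_iff _).1 ((Cl.topology T).W_of_isLocallyBijective (constToLC T M))) ≪≫
    (sheafificationIso (lcCl T M)).symm

end Groth.Agent.HTop50.AnLC
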