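import Groth.Agent.HTop50.AnLC.Lan
import Groth.Agent.HTop50.AnLC.LcCl
import Groth.Agent.Unr55.Et.LocConstTriv
import Groth.Agent.Unr55.Rigid
import Mathlib.Topology.SeparatedMap

/-!
The inverse image on the classical site of a finite locally constant sheaf is finite locally constant.
-/

set_option autoImplicit false
set_option backward.isDefEq.respectTransparency.types false

noncomputable section

open AlgebraicGeometry CategoryTheory CategoryTheory.Limits TopologicalSpace Topology Opposite

namespace Groth.Agent.HTop50.AnLC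

open An An.Pts
open Groth.Agent.EtCore45 (objOf objOfHom)
open Groth.Agent.Unr55 (LC.Triv LC.Triv.sec LC.Triv.sec_natural_apply)

variable {X : Scheme.{0}} [X.Over SC] [LocallyOfFiniteType (X ↘ SC)] [Fact EtaleLH]
  {F : EtCoh.Ab X} {V : X.Etale} {τ : EtCoh.sect F V} (hτ : IsUniv F V τ)
  {U : X.Etale} {M : Type} [AddCommGroup M]
  (ψ : LC.Triv F U (AddCommGrpCat.of (ULift.{1} M)))

/-- The section with constant value. -/
def constSec (m : ULift.{1} M) : EtCoh.sect F U :=
  (ψ.sec (𝟙 U)).inv (LocallyConstant.const _ m)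

omit [X.Over SC] [LocallyOfFiniteType (X ↘ SC)] [Fact EtaleLH] in
theorem sec_constSec (m : ULift.{1} M) {W : X.Etale} (a : W ⟶ U) (w : W.left) :
    (show LocallyConstant W.left (ULift.{1} M) from (ψ.sec a).hom (F.obj.map a.op (constSec ψ m))) w = m := by
  refine (ψ.sec_natural_apply (𝟙 U) a a (Category.comp_id a) (constSec ψ m) w).trans ?_
  have hc : (ψ.sec (𝟙 U)).hom (constSec ψ m) = (LocallyConstant.const U.left m : LocallyConstant _ _) :=
    (ψ.sec (𝟙 U)).addCommGroupIsoToAddEquiv.apply_symm_apply _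
  exact congrArg (fun t : LocallyConstant U.left (ULift.{1} M) => t (a.left w)) hc

include hτ

/-- The corresponding morphism to the representing scheme. -/
def constHom (m : ULift.{1} M) : U ⟶ V := (Equiv.ofBijective _ (hτ U)).symm (constSec ψ m)

omit [X.Over SC] [LocallyOfFiniteType (X ↘ SC)] [Fact EtaleLH] in
theorem map_constHom (m : ULift.{1} M) : F.obj.map (constHom hτ ψ m).op τ = constSec ψ m :=
  (Equiv.ofBijective _ (hτ U)).apply_symm_apply (constSec ψ m)

/-- The corresponding map of spaces. -/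
abbrev constMap (m : ULift.{1} M) : (eps X).obj U ⟶ (eps X).obj V := (eps X).map (constHom hτ ψ m)

theorem constMap_injective (a : ((eps X).obj U).E) :
    Function.Injective fun m => (constMap hτ ψ m).toFun a := by
  intro m m' h
  have : Etale V.hom := V.prop
  let f := (constHom hτ ψ m).left
  let g := (constHom hτ ψ m').left
  obtain ⟨O, hO, hmax, -⟩ := Groth.Agent.Unr55.exists_eqLocus V.hom f g
    ((Over.w (constHom hτ ψ m).hom).trans (Over.w (constHom hτ ψ m').hom).symm)
  have ha : a.1 cpt ∈ O := hmax a.1 (congrArg Subtype.val h) ⟨cpt, rfl⟩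
  let j : objOf U O.ι ⟶ U := objOfHom U O.ι
  have he : j ≫ constHom hτ ψ m = j ≫ constHom hτ ψ m' := MorphismProperty.Over.Hom.ext hO
  have e : F.obj.map j.op (constSec ψ m) = F.obj.map j.op (constSec ψ m') := by
    rw [← map_constHom hτ ψ m, ← map_constHom hτ ψ m', ← ConcreteCategory.comp_apply,
      ← ConcreteCategory.comp_apply, ← Functor.map_comp, ← Functor.map_comp, ← op_comp, ← op_comp, he]
  have h1 := sec_constSec ψ m j (⟨a.1 cpt, ha⟩ : O)
  rw [e] at h1
  exact h1.symm.trans (sec_constSec ψ m' j (⟨a.1 cpt, ha⟩ : O))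

theorem constMap_surjective (a : ((eps X).obj U).E) (v : ((eps X).obj V).E)
    (hv : ((eps X).obj V).p v = ((eps X).obj U).p a) : ∃ m, (constMap hτ ψ m).toFun a = v := by
  have : Etale U.hom := U.prop
  have : Etale V.hom := V.prop
  have hcond : a.1 ≫ U.hom = v.1 ≫ V.hom := (congrArg Subtype.val hv).symm
  let W : X.Etale := objOf U (pullback.fst U.hom V.hom)
  let p1 : W ⟶ U := objOfHom U (pullback.fst U.hom V.hom)
  let p2 : W ⟶ V := MorphismProperty.Over.homMk (pullback.snd U.hom V.hom) pullback.condition.symm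
  let l : SC ⟶ W.left := pullback.lift a.1 v.1 hcond
  let f : LocallyConstant W.left (ULift.{1} M) := (ψ.sec p1).hom (F.obj.map p2.op τ)
  refine ⟨f (l cpt), ?_⟩
  let m := f (l cpt)
  let O : W.left.Opens := ⟨f ⁻¹' {m}, f.isLocallyConstant.isOpen_fiber _⟩
  let j : objOf W O.ι ⟶ W := objOfHom W O.ι
  have hj : j ≫ p2 = j ≫ p1 ≫ constHom hτ ψ m := by
    apply (hτ _).1
    show F.obj.map (j ≫ p2).op τ = F.obj.map (j ≫ p1 ≫ constHom hτ ψ m).op τ
    rw [op_comp, Functor.map_comp, op_comp, op_comp, Functor.map_comp, Functor.map_comp]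
    show F.obj.map j.op (F.obj.map p2.op τ) =
      F.obj.map j.op (F.obj.map p1.op (F.obj.map (constHom hτ ψ m).op τ))
    rw [map_constHom]
    apply (ψ.sec (j ≫ p1)).addCommGroupIsoToAddEquiv.injective
    refine LocallyConstant.ext fun (z : O) => ?_
    refine (ψ.sec_natural_apply p1 j _ rfl _ z).trans (z.2.trans ?_)
    refine Eq.trans ?_ (ψ.sec_natural_apply p1 j _ rfl _ z).symm
    exact (sec_constSec ψ m p1 (j.left z)).symm
  have hl : Set.range l ⊆ Set.range O.ι := by
    rintro _ ⟨z, rfl⟩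
    rw [Scheme.Opens.range_ι, Subsingleton.elim z cpt]
    exact (rfl : f (l cpt) = m)
  have hfac := congrArg (fun k : objOf W O.ι ⟶ V => IsOpenImmersion.lift O.ι l hl ≫ k.left) hj
  refine Subtype.ext ?_
  show a.1 ≫ (constHom hτ ψ m).left = v.1
  have h2 : l ≫ p2.left = l ≫ p1.left ≫ (constHom hτ ψ m).left := by
    have e1 : IsOpenImmersion.lift O.ι l hl ≫ O.ι = l := IsOpenImmersion.lift_fac _ _ _
    have hfac' : IsOpenImmersion.lift O.ι l hl ≫ O.ι ≫ p2.left =
        IsOpenImmersion.lift O.ι l hl ≫ O.ι ≫ p1.left ≫ (constHom hτ ψ m).left := hfac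
    rwa [← Category.assoc, ← Category.assoc, e1] at hfac'
  have e2 : l ≫ p2.left = v.1 := pullback.lift_snd _ _ _
  have e3 : l ≫ p1.left = a.1 := pullback.lift_fst _ _ _
  rw [← e2, ← e3, h2]
  exact Category.assoc _ _ _

variable {B : Cl (Pts X)} (q : B ⟶ (eps X).obj U)

/-- The map with given locally constant label. -/
def glueMap (f : LocallyConstant B.E (ULift.{1} M)) : B ⟶ (eps X).obj V where
  toFun b := (constMap hτ ψ (f b)).toFun (q.toFun b)
  continuous := continuous_iff_continuousAt.2 fun b => by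
    refine ((constMap hτ ψ (f b)).continuous.comp q.continuous).continuousAt.congr ?_
    filter_upwards [f.isLocallyConstant.eventually_eq b] with c hc
    exact (congrArg (fun k => (constMap hτ ψ k).toFun (q.toFun c)) hc).symm
  over b := ((constMap hτ ψ (f b)).over (q.toFun b)).trans (q.over b)

/-- The section with given locally constant label. -/
def glueSec (f : LocallyConstant B.E (ULift.{1} M)) : (P F).obj (op B) := psi τ B (glueMap hτ ψ q f)

theorem glueSec_bijective : Function.Bijective (glueSec hτ ψ q) := by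
  refine (psi_bijective hτ B).comp ⟨fun f f' h => LocallyConstant.ext fun b => ?_, fun g => ?_⟩
  · exact constMap_injective hτ ψ (q.toFun b) (congrFun (congrArg Cl.Hom.toFun h) b)
  · have hex : ∀ b, ∃ m, (constMap hτ ψ m).toFun (q.toFun b) = g.toFun b := fun b =>
      constMap_surjective hτ ψ _ _ ((g.over b).trans (q.over b).symm)
    choose m hm using hex
    refine ⟨⟨m, IsLocallyConstant.iff_isOpen_fiber.2 fun k => ?_⟩, Cl.hom_ext (funext hm)⟩
    have e : m ⁻¹' {k} = {b | (constMap hτ ψ k).toFun (q.toFun b) = g.toFun b} :=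
      Set.ext fun b => ⟨fun h => (congrArg (fun k => (constMap hτ ψ k).toFun (q.toFun b)) h).symm.trans (hm b),
        fun h => constMap_injective hτ ψ (q.toFun b) ((hm b).trans h.symm)⟩
    rw [e]
    exact ((eps X).obj V).lh.isLocallyInjective.isOpen_eqLocus
      ((constMap hτ ψ k).continuous.comp q.continuous) g.continuous
      (funext fun b => ((constMap hτ ψ k).over (q.toFun b)).trans ((q.over b).trans (g.over b).symm))

theorem glueSec_map {B' : Cl (Pts X)} (g : B' ⟶ B) (f : LocallyConstant B.E (ULift.{1} M)) :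
    glueSec hτ ψ (g ≫ q) (f.comap ⟨g.toFun, g.continuous⟩) = (P F).map g.op (glueSec hτ ψ q f) :=
  (psi_map τ g (glueMap hτ ψ q f)).symm

theorem glueSec_const (m : ULift.{1} M) :
    glueSec hτ ψ q (LocallyConstant.const _ m) = (P F).map q.op ((η F).app (op U) (constSec ψ m)) := by
  rw [← map_constHom hτ ψ m, ← psi_eps, psi_map]
  rfl

theorem glueSec_add (f f' : LocallyConstant B.E (ULift.{1} M)) :
    glueSec hτ ψ q (f + f') = glueSec hτ ψ q f + glueSec hτ ψ q f' := by
  have hsh := (isSheaf_iff_isSheaf_of_type _ _).1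
    ((Presheaf.isSheaf_iff_isSheaf_forget _ _ (forget AddCommGrpCat.{1})).1 (isSheaf_P hτ))
  let S : Sieve B :=
    { arrows := fun _ g => (P F).map g.op (glueSec hτ ψ q (f + f')) =
        (P F).map g.op (glueSec hτ ψ q f + glueSec hτ ψ q f')
      downward_closed := fun {Y Z g} hg k => by
        rw [op_comp, Functor.map_comp, ConcreteCategory.comp_apply, ConcreteCategory.comp_apply, hg] }
  have hS : S ∈ Cl.topology (Pts X) B := fun b => by
    have hW : IsOpen (f ⁻¹' {f b} ∩ f' ⁻¹' {f' b}) :=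
      (f.isLocallyConstant.isOpen_fiber _).inter (f'.isLocallyConstant.isOpen_fiber _)
    let ι := Cl.restrictOpenι B _ hW
    refine ⟨_, ι, ?_, hW.isOpenEmbedding_subtypeVal,
      (⟨b, rfl, rfl⟩ : {w // w ∈ f ⁻¹' {f b} ∩ f' ⁻¹' {f' b}}), rfl⟩
    show (P F).map ι.op _ = (P F).map ι.op _
    have ec : f.comap ⟨ι.toFun, ι.continuous⟩ = LocallyConstant.const _ (f b) :=
      LocallyConstant.ext fun z => (z : {w // w ∈ f ⁻¹' {f b} ∩ f' ⁻¹' {f' b}}).2.1
    have ec' : f'.comap ⟨ι.toFun, ι.continuous⟩ = LocallyConstant.const _ (f' b) :=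
      LocallyConstant.ext fun z => (z : {w // w ∈ f ⁻¹' {f b} ∩ f' ⁻¹' {f' b}}).2.2
    have ea : (f + f').comap ⟨ι.toFun, ι.continuous⟩ = LocallyConstant.const _ (f b + f' b) :=
      LocallyConstant.ext fun z => congrArg₂ (· + ·)
        (congrArg (fun t : LocallyConstant _ (ULift.{1} M) => t z) ec)
        (congrArg (fun t : LocallyConstant _ (ULift.{1} M) => t z) ec')
    rw [map_add, ← glueSec_map, ← glueSec_map, ← glueSec_map, ec, ec', ea, glueSec_const, glueSec_const,
      glueSec_const, constSec, constSec, constSec, ← map_add, ← map_add]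
    refine congrArg _ (congrArg _ ?_)
    rw [← map_add]
    rfl
  exact (hsh _ hS).isSeparatedFor.ext fun Y g hg => hg

/-- The label isomorphism at an object. -/
def glueIso : AddCommGrpCat.of (LocallyConstant B.E (ULift.{1} M)) ≅ (P F).obj (op B) :=
  AddEquiv.toAddCommGrpIso (AddEquiv.ofBijective
    (AddMonoidHom.mk' (glueSec hτ ψ q) (glueSec_add hτ ψ q)) (glueSec_bijective hτ ψ q))

/-- The trivialisation of the inverse image. -/
def trivIso : (G hτ).over ((eps X).obj U) ≅ (Cl.const (Pts X) M).over ((eps X).obj U) :=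
  ((fullyFaithfulSheafToPresheaf _ _).preimageIso
    (X := (lcCl (Pts X) M).over ((eps X).obj U)) (Y := (G hτ).over ((eps X).obj U))
    (NatIso.ofComponents (fun Y => glueIso hτ ψ Y.unop.hom)
      (fun {Y Y'} g => ConcreteCategory.hom_ext _ _ fun f => by
        show glueSec hτ ψ Y'.unop.hom _ = (P F).map g.unop.left.op (glueSec hτ ψ Y.unop.hom f)
        rw [← glueSec_map]
        simp only [Over.w]
        rfl))).symm ≪≫
    ((Cl.topology (Pts X)).overPullback AddCommGrpCat.{1} ((eps X).obj U)).mapIso (constIso (Pts X) M).symm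

omit hτ

/-- The inverse image of a finite locally constant sheaf. -/
theorem isFiniteLocallyConstant_epsPull [EpsCont X] (F : EtCoh.Ab X)
    (hF : EtCoh.IsFiniteLocallyConstant F) :
    IsIso ((epsAdj X).unit.app F) ∧ Cl.IsFiniteLocallyConstant ((epsPull X).obj F) := by
  obtain ⟨V, hV, τ, hτ⟩ := exists_isUniv F hF
  refine ⟨isIso_unit hτ, ?_⟩
  obtain ⟨i, -⟩ := exists_iso hτ
  obtain ⟨ι, U, hU, hM⟩ := hF
  refine ⟨ι, fun k => (eps X).obj (U k), fun t => ?_, fun k => ?_⟩
  · obtain ⟨k, y, hy⟩ := hU t.pt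
    have := An92.etale_lft X (U k)
    obtain ⟨a, ha⟩ := (An92.range_map (X := (U k).left) (Y := X) ((U k).left ↘ X)).ge
      (show t ∈ Pts.pt ⁻¹' Set.range ((U k).left ↘ X) from ⟨y, hy⟩)
    exact ⟨k, a, ha⟩
  · obtain ⟨M, iM, hfin, ⟨e⟩⟩ := hM k
    exact ⟨M, iM, hfin, ⟨((Cl.topology (Pts X)).overPullback AddCommGrpCat.{1} _).mapIso i ≪≫
      trivIso hτ (LC.Triv.ofConst e)⟩⟩

end Groth.Agent.HTop50.AnLC
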